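import Cfsg.Agent.Lib.G2Invol.SL2
import Cfsg.Agent.Lib.ChevTorusCent.Basic
import Cfsg.Agent.Lib.ChevCent.Basic
import Cfsg.Agent.Lib.Chev.Comm
import Cfsg.Agent.Lib.ChevField.Main
import Cfsg.Agent.Lib.Linear.Card

/-!
The centraliser of the involution `h(-1)` in G₂ over a field of odd order.
-/

set_option autoImplicit false
set_option linter.unusedSectionVars false

namespace CfsgLib.G2Invol

open Cfsg.Lie CfsgLib.Chev CfsgLib.ChevSL2 CfsgLib.ChevTorusCent CfsgLib.SteinbergTwo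
open Matrix

/-- the short fundamental root -/
def ia : Fin chevG2.rank := ⟨0, by decide⟩

/-- the long fundamental root -/
def ib : Fin chevG2.rank := ⟨1, by decide⟩

theorem fin_rank (i : Fin chevG2.rank) : i = ia ∨ i = ib := by
  have h : i.val < 2 := i.isLt
  rcases i with ⟨v, hv⟩
  interval_cases v
  · exact Or.inl rfl
  · exact Or.inr rfl

theorem hcG : Checked chevG2 G2.tabs := G2.checked

theorem hcommG : CommOne chevG2 G2.tabs := commOne_of_wordCheck G2.checked G2.comm_ok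

/-- a left inverse of the Cartan matrix -/
def cartInv (i k : Fin chevG2.rank) : ℤ :=
  (([[2, 3], [1, 2]] : List (List ℤ)).getD i.val []).getD k.val 0

theorem cartInv_spec : ChevField.CartanInv chevG2 cartInv := by
  unfold ChevField.CartanInv
  decide +kernel

theorem n7 : 7 < chevG2.nroots := by decide
theorem n11 : 11 < chevG2.nroots := by decide
theorem neg7 : chevG2.neg 7 = 4 := by decide +kernel
theorem neg11 : chevG2.neg 11 = 0 := by decide +kernel

variable {F : Type*} [Field F]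

/-- the torus element with prescribed values on the two fundamental roots -/
def chr (x y : Fˣ) : Fin chevG2.rank → Fˣ := fun i => if i = ia then x else y

theorem chr_ia (x y : Fˣ) : chr x y ia = x := if_pos rfl
theorem chr_ib (x y : Fˣ) : chr x y ib = y := if_neg (by decide)

theorem chr_ext {χ : Fin chevG2.rank → Fˣ} : χ = chr (χ ia) (χ ib) := by
  funext i
  rcases fin_rank i with rfl | rfl
  · rw [chr_ia]
  · rw [chr_ib]

theorem chr_mul (x y x' y' : Fˣ) : chr x y * chr x' y' = chr (x * x') (y * y') := by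
  funext i
  rcases fin_rank i with rfl | rfl <;> simp [chr_ia, chr_ib]

theorem chr_inj {x y x' y' : Fˣ} (h : chr x y = chr x' y') : x = x' ∧ y = y' :=
  ⟨by have := congrFun h ia; rwa [chr_ia, chr_ia] at this,
    by have := congrFun h ib; rwa [chr_ib, chr_ib] at this⟩

theorem chi_rank (χ : Fin chevG2.rank → Fˣ) (v : Fin chevG2.rank → ℤ) :
    chi χ v = χ ia ^ v ia * χ ib ^ v ib := by
  rw [chi, show (Finset.univ : Finset (Fin chevG2.rank)) = {ia, ib} by decide, Finset.prod_pair (by decide)]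

/-- the torus -/
noncomputable def tor (x y : Fˣ) : GL chevG2.Idx F := torus chevG2 G2.tabs F (chr x y)

theorem tor_mem (χ : Fin chevG2.rank → Fˣ) :
    torus chevG2 G2.tabs F χ ∈ chevG2.diagonalSubgroup F := by
  rw [diagonalSubgroup_eq hcG]
  obtain ⟨c, hc⟩ := ChevField.hPar_surjective cartInv_spec χ
  exact ⟨c, by rw [MonoidHom.comp_apply, hc]⟩

theorem tor_mul (x y x' y' : Fˣ) : tor x y * tor x' y' = tor (x * x') (y * y') := by
  rw [tor, tor, tor, ← map_mul, chr_mul]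

theorem tor_inj {x y x' y' : Fˣ} (h : tor x y = tor x' y') : x = x' ∧ y = y' :=
  chr_inj (torus_injective hcG h)

theorem tor_one : tor (1 : Fˣ) 1 = 1 := by
  rw [tor, show chr (1 : Fˣ) 1 = 1 from (chr_ext (χ := (1 : Fin chevG2.rank → Fˣ))).symm, map_one]

theorem cor7 (s : Fˣ) : corChar chevG2 G2.tabs 7 s = chr (s ^ 2) (s ^ (-3 : ℤ)) := by
  rw [chr_ext (χ := corChar chevG2 G2.tabs 7 s)]
  congr 1

theorem cor11 (s : Fˣ) : corChar chevG2 G2.tabs 11 s = chr 1 s := by
  rw [chr_ext (χ := corChar chevG2 G2.tabs 11 s)]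
  congr 1
  · rw [corChar, show (∑ k : Fin chevG2.rank, cv G2.tabs 11 k * cm chevG2 k ia) = 0 by decide +kernel, zpow_zero]
  · rw [corChar, show (∑ k : Fin chevG2.rank, cv G2.tabs 11 k * cm chevG2 k ib) = 1 by decide +kernel, zpow_one]

theorem rv7 : rv chevG2 G2.tabs 7 ia = 1 ∧ rv chevG2 G2.tabs 7 ib = 0 := by decide +kernel
theorem rv11 : rv chevG2 G2.tabs 11 ia = 3 ∧ rv chevG2 G2.tabs 11 ib = 2 := by decide +kernel

theorem chi7 (x y : Fˣ) : chi (chr x y) (rv chevG2 G2.tabs 7) = x := by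
  rw [chi_rank, chr_ia, chr_ib, rv7.1, rv7.2, zpow_one, zpow_zero, mul_one]

theorem chi11 (x y : Fˣ) : chi (chr x y) (rv chevG2 G2.tabs 11) = x ^ 3 * y ^ 2 := by
  rw [chi_rank, chr_ia, chr_ib, rv11.1, rv11.2, zpow_ofNat, zpow_ofNat]

/-- the homomorphism onto the pair of the short root `a` -/
noncomputable def phi7 : SpecialLinearGroup (Fin 2) F →* GL chevG2.Idx F :=
  (exists_hom hcG (F := F) n7).choose

/-- the homomorphism onto the pair of the highest root -/
noncomputable def phi11 : SpecialLinearGroup (Fin 2) F →* GL chevG2.Idx F :=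
  (exists_hom hcG (F := F) n11).choose

theorem phi7_range : (phi7 (F := F)).range = chevG2.rootSubgroup F 7 ⊔ chevG2.rootSubgroup F (chevG2.neg 7) :=
  (exists_hom hcG (F := F) n7).choose_spec.1

theorem phi11_range : (phi11 (F := F)).range = chevG2.rootSubgroup F 11 ⊔ chevG2.rootSubgroup F (chevG2.neg 11) :=
  (exists_hom hcG (F := F) n11).choose_spec.1

theorem phi7_img (b : Bool) (t : F) : phi7 (img F (b, t)) = rootPair chevG2 F 7 b t :=
  (exists_hom hcG (F := F) n7).choose_spec.2 b t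

theorem phi11_img (b : Bool) (t : F) : phi11 (img F (b, t)) = rootPair chevG2 F 11 b t :=
  (exists_hom hcG (F := F) n11).choose_spec.2 b t

theorem commute_pair (b b' : Bool) (t u : F) :
    Commute (rootPair chevG2 F 7 b t) (rootPair chevG2 F 11 b' u) := by
  have h : ∀ r ∈ [7, 4], ∀ s ∈ [11, 0], s ≠ chevG2.neg r ∧ chevG2.commTerms r s = [] := by decide +kernel
  have key : ∀ r ∈ [7, 4], ∀ s ∈ [11, 0], Commute (elX chevG2 F r t) (elX chevG2 F s u) := by
    intro r hr s hs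
    obtain ⟨h1, h2⟩ := h r hr s hs
    have hr' : r < chevG2.nroots := by fin_cases hr <;> decide
    have hs' : s < chevG2.nroots := by fin_cases hs <;> decide
    exact ChevCent.commute_elX hcG hcommG hr' hs' h1 (by rw [h2]; simp) t u
  cases b <;> cases b' <;> simp only [rootPair, Bool.false_eq_true, if_false, if_true, neg7, neg11] <;>
    exact key _ (by simp) _ (by simp)

theorem commute_phi (A B : SpecialLinearGroup (Fin 2) F) : Commute (phi7 A) (phi11 B) := by
  have hA : A ∈ Subgroup.closure {g | ∃ b t, g = img F (b, t)} := by rw [closure_img]; trivial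
  have hB : B ∈ Subgroup.closure {g | ∃ b t, g = img F (b, t)} := by rw [closure_img]; trivial
  induction hA using Subgroup.closure_induction with
  | mem x hx =>
    obtain ⟨b, t, rfl⟩ := hx
    induction hB using Subgroup.closure_induction with
    | mem y hy => obtain ⟨b', u, rfl⟩ := hy; rw [phi7_img, phi11_img]; exact commute_pair b b' t u
    | one => rw [map_one]; exact Commute.one_right _
    | mul y z _ _ hy hz => rw [map_mul]; exact hy.mul_right hz
    | inv y _ hy => rw [map_inv]; exact hy.inv_right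
  | one => rw [map_one]; exact Commute.one_left _
  | mul x z _ _ hx hz => rw [map_mul]; exact hx.mul_left hz
  | inv x _ hx => rw [map_inv]; exact hx.inv_left

/-- the product map -/
noncomputable def psi : SpecialLinearGroup (Fin 2) F × SpecialLinearGroup (Fin 2) F →* GL chevG2.Idx F :=
  MonoidHom.noncommCoprod phi7 phi11 commute_phi

theorem psi_apply (A B : SpecialLinearGroup (Fin 2) F) : psi (A, B) = phi7 A * phi11 B := rfl

theorem phi7_inj : Function.Injective (phi7 (F := F)) :=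
  hom_injective hcG n7 phi7 phi7_img (by decide) fun s hs => by
    rw [cor7, show (1 : Fin chevG2.rank → Fˣ) = chr 1 1 from chr_ext] at hs
    obtain ⟨h2, h3⟩ := chr_inj hs
    rw [_root_.zpow_neg, inv_eq_one, show (3 : ℤ) = ((3 : ℕ) : ℤ) from rfl, zpow_natCast] at h3
    rwa [pow_succ, h2, one_mul] at h3

theorem phi11_inj : Function.Injective (phi11 (F := F)) :=
  hom_injective hcG n11 phi11 phi11_img (by decide) fun s hs => by
    rw [cor11, show (1 : Fin chevG2.rank → Fˣ) = chr 1 1 from chr_ext] at hs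
    exact (chr_inj hs).2

theorem phi7_dd (s : Fˣ) : phi7 (dd s) = tor (s ^ 2) (s ^ (-3 : ℤ)) := by
  rw [hom_dd hcG n7 phi7 phi7_img, cor7, tor]

theorem phi11_dd (s : Fˣ) : phi11 (dd s) = tor 1 s := by
  rw [hom_dd hcG n11 phi11 phi11_img, cor11, tor]

theorem tor_conj7 (x y : Fˣ) (g : SpecialLinearGroup (Fin 2) F) :
    tor x y * phi7 g * (tor x y)⁻¹ = phi7 (dtwist x g) := by
  rw [tor, hom_dtwist hcG n7 phi7 phi7_img, chi7]

theorem tor_conj11 (x y : Fˣ) (g : SpecialLinearGroup (Fin 2) F) :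
    tor x y * phi11 g * (tor x y)⁻¹ = phi11 (dtwist (x ^ 3 * y ^ 2) g) := by
  rw [tor, hom_dtwist hcG n11 phi11 phi11_img, chi11]

theorem diag_of_conj {c : Fˣ} {A : SpecialLinearGroup (Fin 2) F}
    (h : ∀ g, A * g * A⁻¹ = dtwist c g) : ∃ s : Fˣ, A = dd s ∧ c = s ^ 2 := by
  have e : ∀ b, A * img F (b, 1) = dtwist c (img F (b, 1)) * A := fun b => by
    rw [← h, inv_mul_cancel_right]
  have hdet : A 0 0 * A 1 1 - A 0 1 * A 1 0 = 1 := by rw [← det_fin_two]; exact A.2
  have eU := fun i j => congrArg (fun g : SpecialLinearGroup (Fin 2) F => g i j) (e true)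
  have eL := fun i j => congrArg (fun g : SpecialLinearGroup (Fin 2) F => g i j) (e false)
  have u00 := eU 0 0; have u01 := eU 0 1; have l00 := eL 0 0
  simp [dtwist_img, coe_img, SpecialLinearGroup.coe_mul, mul_apply, Fin.sum_univ_two] at u00 u01 l00
  have hc : A 1 0 = 0 := u00
  have hb : A 0 1 = 0 := l00
  rw [hb, zero_mul, sub_zero] at hdet
  have ha : A 0 0 = (c : F) * A 1 1 := by linear_combination u01
  have ha0 : A 0 0 ≠ 0 := fun h0 => by rw [h0] at hdet; simp at hdet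
  refine ⟨Units.mk0 _ ha0, ?_, Units.ext ?_⟩
  · ext i j
    fin_cases i <;> fin_cases j <;> simp [coe_dd, hb, hc]
    exact eq_inv_of_mul_eq_one_right hdet
  · rw [Units.val_pow_eq_pow_val, Units.val_mk0]
    linear_combination -(c : F) * hdet - A 0 0 * ha

theorem psi_eq_tor {A B : SpecialLinearGroup (Fin 2) F} {x y : Fˣ} (h : psi (A, B) = tor x y) :
    ∃ s u : Fˣ, A = dd s ∧ B = dd u ∧ x = s ^ 2 ∧ y = s ^ (-3 : ℤ) * u := by
  rw [psi_apply] at h
  obtain ⟨s, rfl, hx⟩ : ∃ s : Fˣ, A = dd s ∧ x = s ^ 2 := diag_of_conj fun g => phi7_inj (by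
    rw [map_mul, map_mul, map_inv, ← tor_conj7 x y g, ← h]
    have e : phi11 B * phi7 g = phi7 g * phi11 B := (commute_phi g B).symm.eq
    calc phi7 A * phi7 g * (phi7 A)⁻¹ = phi7 A * (phi7 g * phi11 B) * (phi11 B)⁻¹ * (phi7 A)⁻¹ := by group
      _ = phi7 A * (phi11 B * phi7 g) * (phi11 B)⁻¹ * (phi7 A)⁻¹ := by rw [e]
      _ = _ := by group)
  refine ⟨s, y * (s ^ (-3 : ℤ))⁻¹, rfl, phi11_inj ?_, hx, by rw [mul_comm y, mul_inv_cancel_left]⟩
  apply mul_left_cancel (a := phi7 (dd s))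
  rw [h, phi7_dd, phi11_dd, tor_mul, mul_one, hx, mul_comm y, mul_inv_cancel_left]

/-- the product of the two rank one groups -/
noncomputable def MM (F : Type*) [Field F] : Subgroup (GL chevG2.Idx F) := (psi (F := F)).range

theorem phi7_mem (A : SpecialLinearGroup (Fin 2) F) : phi7 A ∈ MM F :=
  ⟨(A, 1), by rw [psi_apply, map_one, mul_one]⟩

theorem phi11_mem (B : SpecialLinearGroup (Fin 2) F) : phi11 B ∈ MM F :=
  ⟨(1, B), by rw [psi_apply, map_one, one_mul]⟩

theorem tor_mem_MM_iff (x y : Fˣ) : tor x y ∈ MM F ↔ IsSquare x := by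
  constructor
  · rintro ⟨⟨A, B⟩, h⟩
    obtain ⟨s, u, -, -, hx, -⟩ := psi_eq_tor h
    exact hx ▸ ⟨s, sq s⟩
  · rintro ⟨s, rfl⟩
    refine ⟨(dd s, dd ((s ^ (-3 : ℤ))⁻¹ * y)), ?_⟩
    rw [psi_apply, phi7_dd, phi11_dd, tor_mul, mul_one, mul_inv_cancel_left, sq]

theorem tor_normalizes (χ : Fin chevG2.rank → Fˣ) :
    torus chevG2 G2.tabs F χ ∈ Subgroup.normalizer (MM F : Set (GL chevG2.Idx F)) := by
  have key : ∀ x y : Fˣ, ∀ g ∈ MM F, tor x y * g * (tor x y)⁻¹ ∈ MM F := by
    rintro x y g ⟨⟨A, B⟩, rfl⟩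
    rw [psi_apply, show tor x y * (phi7 A * phi11 B) * (tor x y)⁻¹ =
      (tor x y * phi7 A * (tor x y)⁻¹) * (tor x y * phi11 B * (tor x y)⁻¹) by group, tor_conj7, tor_conj11]
    exact mul_mem (phi7_mem _) (phi11_mem _)
  rw [chr_ext (χ := χ), ← tor, Subgroup.mem_normalizer_iff]
  intro g
  refine ⟨key _ _ g, fun h => ?_⟩
  have hinv : (tor (χ ia) (χ ib))⁻¹ = tor (χ ia)⁻¹ (χ ib)⁻¹ :=
    inv_eq_of_mul_eq_one_right (by rw [tor_mul, mul_inv_cancel, mul_inv_cancel, tor_one])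
  have := key (χ ia)⁻¹ (χ ib)⁻¹ _ h
  rw [← hinv, show ∀ t a : GL chevG2.Idx F, t⁻¹ * (t * a * t⁻¹) * t⁻¹⁻¹ = a from fun t a => by group] at this
  exact this

/-- `MM · T` -/
noncomputable def CC (F : Type*) [Field F] : Subgroup (GL chevG2.Idx F) :=
  MM F ⊔ (torus chevG2 G2.tabs F).range

theorem mem_CC {g : GL chevG2.Idx F} : g ∈ CC F ↔ ∃ m ∈ MM F, ∃ x y : Fˣ, g = m * tor x y := by
  constructor
  · intro h
    rw [CC, ← SetLike.mem_coe, Subgroup.coe_mul_of_right_le_normalizer_left _ _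
      (by rintro _ ⟨χ, rfl⟩; exact tor_normalizes χ)] at h
    obtain ⟨m, hm, _, ⟨χ, rfl⟩, rfl⟩ := h
    exact ⟨m, hm, χ ia, χ ib, by rw [tor, ← chr_ext]⟩
  · rintro ⟨m, hm, x, y, rfl⟩
    exact mul_mem (Subgroup.mem_sup_left hm) (Subgroup.mem_sup_right ⟨_, rfl⟩)

theorem rootPair_mem {r : ℕ} (hr : r = 7 ∨ r = 4 ∨ r = 11 ∨ r = 0) (t : F) : elX chevG2 F r t ∈ MM F := by
  rcases hr with rfl | rfl | rfl | rfl
  · exact (show phi7 (img F (true, t)) = elX chevG2 F 7 t by rw [phi7_img]; rfl) ▸ phi7_mem _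
  · exact (show phi7 (img F (false, t)) = elX chevG2 F 4 t by rw [phi7_img, rootPair, neg7]; rfl) ▸ phi7_mem _
  · exact (show phi11 (img F (true, t)) = elX chevG2 F 11 t by rw [phi11_img]; rfl) ▸ phi11_mem _
  · exact (show phi11 (img F (false, t)) = elX chevG2 F 0 t by rw [phi11_img, rootPair, neg11]; rfl) ▸ phi11_mem _

theorem nProd_ia_mem : nProd chevG2 F [ia] ∈ CC F := by
  rw [nProd_cons, nProd_nil, mul_one, show chevG2.simple ia.val = 7 from by decide +kernel]
  refine Subgroup.mem_sup_left ?_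
  rw [← hom_jj hcG n7 phi7 phi7_img]
  exact phi7_mem _

/-- the word of the reflection in the highest root -/
def W11 : List (Fin chevG2.rank) := [ib, ia, ib, ia, ib]

/-- the word of the longest element -/
def W0 : List (Fin chevG2.rank) := ia :: W11

theorem nProd_W11' : ∃ k ∈ chevG2.diagonalSubgroup F, ∃ c : Fˣ,
    nProd chevG2 F W11 = phi11 (ww (c : F) c.ne_zero) * k := by
  set L : List (Fin chevG2.rank) := [ib, ia]
  obtain ⟨k, hk, he⟩ := nProd_inv hcG (F := F) L
  obtain ⟨c, hc1, hcc⟩ := nProd_conj_elX_pair hcG (F := F) L (r := 6) (by decide)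
  have e6 : sigs chevG2 G2.tabs L 6 = 11 := by decide +kernel
  have hs : chevG2.simple ib.val = 6 := by decide +kernel
  refine ⟨(nProd chevG2 F L * k * (nProd chevG2 F L)⁻¹)⁻¹ * 1, ?_, c, ?_⟩
  · exact mul_mem (inv_mem (nProd_conj_diagonal hcG L hk)) (one_mem _)
  have hw : phi11 (ww (c : F) c.ne_zero) = nProd chevG2 F L * elN chevG2 F 6 1 * (nProd chevG2 F L)⁻¹ := by
    rw [hom_wWord hcG n11 phi11 phi11_img]
    set n := nProd chevG2 F L
    simp only [elN]
    rw [show n * (elX chevG2 F 6 1 * elX chevG2 F (chevG2.neg 6) (-1⁻¹) * elX chevG2 F 6 1) * n⁻¹ =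
      (n * elX chevG2 F 6 1 * n⁻¹) * (n * elX chevG2 F (chevG2.neg 6) (-1⁻¹) * n⁻¹) * (n * elX chevG2 F 6 1 * n⁻¹) by
        group, (hcc 1).1, (hcc _).2, e6, mul_one]
    rcases hc1 with e | e <;> simp [e]
  rw [hw, mul_one]
  have hL : nProd chevG2 F W11 = nProd chevG2 F L * elN chevG2 F 6 1 * nProd chevG2 F L.reverse := by
    rw [show W11 = L ++ ([ib] ++ L.reverse) from rfl, nProd_append, nProd_append,
      show nProd chevG2 F [ib] = elN chevG2 F 6 1 by rw [nProd_cons, nProd_nil, mul_one, hs], mul_assoc]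
  rw [hL]
  have : nProd chevG2 F L.reverse = k⁻¹ * (nProd chevG2 F L)⁻¹ := by rw [he, inv_mul_cancel_left]
  rw [this]
  group

theorem nProd_W11 : ∃ k ∈ chevG2.diagonalSubgroup F, ∃ A : SpecialLinearGroup (Fin 2) F,
    nProd chevG2 F W11 = phi11 A * k := by
  obtain ⟨k, hk, c, e⟩ := nProd_W11' (F := F)
  exact ⟨k, hk, _, e⟩

theorem nProd_W11_mem : nProd chevG2 F W11 ∈ CC F := by
  obtain ⟨k, hk, A, e⟩ := nProd_W11 (F := F)
  obtain ⟨χ, rfl⟩ := (mem_diagonal hcG).1 hk
  rw [e]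
  exact mul_mem (Subgroup.mem_sup_left (phi11_mem A)) (Subgroup.mem_sup_right ⟨_, rfl⟩)

theorem neg_one_unit (h2 : (2 : F) ≠ 0) : (-1 : Fˣ) ≠ 1 := fun h =>
  h2 (by
    have h1 := congrArg Units.val h
    rw [Units.val_neg, Units.val_one] at h1
    linear_combination -h1)

/-- the distinguished involution -/
noncomputable def t0 (F : Type*) [Field F] : GL chevG2.Idx F := tor 1 (-1)

theorem t0_mem_group : t0 F ∈ chevG2.group F := diagonal_le_group hcG (tor_mem _)

theorem fix_roots (h2 : (2 : F) ≠ 0) {r : ℕ} (hr : r < chevG2.nroots)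
    (h : chi (chr (1 : Fˣ) (-1)) (rv chevG2 G2.tabs r) = 1) : r = 7 ∨ r = 4 ∨ r = 11 ∨ r = 0 := by
  have key : ∀ r : Fin chevG2.nroots, (r.val = 7 ∨ r.val = 4 ∨ r.val = 11 ∨ r.val = 0) ∨
      rv chevG2 G2.tabs r.val ib = 1 ∨ rv chevG2 G2.tabs r.val ib = -1 := by decide +kernel
  rcases key ⟨r, hr⟩ with e | e | e
  · exact e
  all_goals
    rw [chi_rank, chr_ia, chr_ib, _root_.one_zpow, one_mul, e] at h
    simp at h
    exact absurd h (neg_one_unit h2)

theorem fixRoot_le (h2 : (2 : F) ≠ 0) (P : ℕ → Prop) :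
    uGen chevG2 F (FixRoot chevG2 G2.tabs (chr (1 : Fˣ) (-1)) P) ≤ MM F :=
  uGen_le_iff.2 fun _ hr h t => rootPair_mem (fix_roots h2 hr h.2) t

theorem sigs_stable (h2 : (2 : F) ≠ 0) {L : List (Fin chevG2.rank)}
    (hL : nProd chevG2 F L * t0 F = t0 F * nProd chevG2 F L) {r : ℕ} (hr : r = 7 ∨ r = 11) :
    let v := sigs chevG2 G2.tabs L r
    v = 7 ∨ v = 4 ∨ v = 11 ∨ v = 0 := by
  intro v
  have hrn : r < chevG2.nroots := by rcases hr with rfl | rfl <;> decide
  obtain ⟨c, -, hc⟩ := nProd_conj_elX hcG (F := F) L hrn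
  have hv : v < chevG2.nroots := sigs_lt hcG L hrn
  refine fix_roots h2 hv ?_
  have h1 : t0 F * elX chevG2 F r 1 = elX chevG2 F r 1 * t0 F := by
    rw [t0, tor, torus_elX hcG _ hrn]
    rcases hr with rfl | rfl
    · rw [chi7, Units.val_one, one_mul]
    · rw [chi11, neg_one_sq, one_pow, one_mul, Units.val_one, one_mul]
  have h3 : t0 F * elX chevG2 F v ((c : F) * 1) = elX chevG2 F v ((c : F) * 1) * t0 F := by
    have hn : Commute (t0 F) (nProd chevG2 F L) := hL.symm
    rw [← hc]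
    exact ((hn.mul_right h1).mul_right hn.inv_right).eq
  rw [t0, tor, torus_elX hcG _ hv] at h3
  have h4 := mul_right_cancel h3
  rw [mul_one] at h4
  have h5 : elX chevG2 F v (((chi (chr 1 (-1)) (rv chevG2 G2.tabs v) : Fˣ) : F) * c - c) = 1 := by
    rw [sub_eq_add_neg, ← elX_add hcG F hv, h4, elX_add hcG F hv, add_neg_cancel, elX_zero hcG F hv]
  have h6 := (elX_eq_one_iff hcG hv _).1 h5
  refine Units.ext ?_
  rw [sub_eq_zero] at h6
  rw [Units.val_one]
  exact (mul_eq_right₀ c.ne_zero).1 h6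

theorem long_stable (L : List (Fin chevG2.rank)) {r : ℕ} (hr : r ∈ ([0, 1, 5, 6, 10, 11] : List ℕ)) :
    sigs chevG2 G2.tabs L r ∈ ([0, 1, 5, 6, 10, 11] : List ℕ) := by
  induction L with
  | nil => exact hr
  | cons i L ih =>
    rw [sigs_cons]
    have h : ∀ i : Fin chevG2.rank, ∀ s ∈ ([0, 1, 5, 6, 10, 11] : List ℕ),
        sig chevG2 G2.tabs i s ∈ ([0, 1, 5, 6, 10, 11] : List ℕ) := by decide +kernel
    exact h i _ ih

theorem sigs_id_of_fix {L : List (Fin chevG2.rank)} (h7 : sigs chevG2 G2.tabs L 7 = 7)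
    (h11 : sigs chevG2 G2.tabs L 11 = 11) : nProd chevG2 F L ∈ chevG2.diagonalSubgroup F := by
  have e7 := rv_sigs hcG L (r := 7) n7
  have e11 := rv_sigs hcG L (r := 11) n11
  rw [h7] at e7
  rw [h11] at e11
  have e6 : rv chevG2 G2.tabs 11 = (3 : ℤ) • rv chevG2 G2.tabs 7 + (2 : ℤ) • rv chevG2 G2.tabs 6 := by
    funext i
    revert i
    simp only [Pi.add_apply, Pi.smul_apply, smul_eq_mul]
    decide +kernel
  refine nProd_mem_of_pos hcG L fun i => ?_
  rcases fin_rank i with rfl | rfl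
  · rw [show chevG2.simple ia.val = 7 by decide +kernel, h7]; decide
  · rw [show chevG2.simple ib.val = 6 by decide +kernel]
    rw [e6] at e11
    rw [refls_add, refls_smul, refls_smul, ← e7] at e11
    have h6 : rv chevG2 G2.tabs (sigs chevG2 G2.tabs L 6) = rv chevG2 G2.tabs 6 := by
      rw [rv_sigs hcG L (by decide)]
      funext i
      have := congrFun (add_left_cancel e11) i
      simp only [Pi.smul_apply, smul_eq_mul] at this
      omega
    rw [rv_inj hcG (sigs_lt hcG L (by decide)) (by decide) h6]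
    decide

theorem nProd_mem_CC (h2 : (2 : F) ≠ 0) (L : List (Fin chevG2.rank))
    (hL : nProd chevG2 F L * t0 F = t0 F * nProd chevG2 F L) : nProd chevG2 F L ∈ CC F := by
  have hlong := long_stable L (r := 11) (by simp)
  have h11 := sigs_stable h2 hL (r := 11) (Or.inr rfl)
  have h7 := sigs_stable h2 hL (r := 7) (Or.inl rfl)
  have hshort : sigs chevG2 G2.tabs L 7 ∉ ([0, 1, 5, 6, 10, 11] : List ℕ) := fun h => by
    have := long_stable L.reverse h
    rw [sigs_reverse hcG L n7] at this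
    simp at this
  have hw : ∀ v : ℕ, v ∈ [7, 4, 11, 0] → sigs chevG2 G2.tabs W11 v = (if v = 11 then 0 else if v = 0 then 11 else v) ∧
      sigs chevG2 G2.tabs [ia] v = (if v = 7 then 4 else if v = 4 then 7 else v) := by decide +kernel
  have hdiag : ∀ {x : GL chevG2.Idx F}, x ∈ chevG2.diagonalSubgroup F → x ∈ CC F := fun hx => by
    obtain ⟨χ, rfl⟩ := (mem_diagonal hcG).1 hx
    exact Subgroup.mem_sup_right ⟨_, rfl⟩
  have fix7 : ∀ M : List (Fin chevG2.rank), sigs chevG2 G2.tabs M 11 = 11 →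
      (sigs chevG2 G2.tabs M 7 = 7 ∨ sigs chevG2 G2.tabs M 7 = 4) → nProd chevG2 F M ∈ CC F := by
    intro M h11 h7
    rcases h7 with e | e
    · exact hdiag (sigs_id_of_fix e h11)
    · have h := hdiag (sigs_id_of_fix (F := F) (L := [ia] ++ M)
        (by rw [sigs_append, e, (hw 4 (by simp)).2]; rfl) (by rw [sigs_append, h11, (hw 11 (by simp)).2]; rfl))
      rw [nProd_append] at h
      have := mul_mem (inv_mem (nProd_ia_mem (F := F))) h
      rwa [inv_mul_cancel_left] at this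
  have h7' : sigs chevG2 G2.tabs L 7 = 7 ∨ sigs chevG2 G2.tabs L 7 = 4 := by
    rcases h7 with e | e | e | e
    · exact Or.inl e
    · exact Or.inr e
    · exact absurd (by rw [e]; simp) hshort
    · exact absurd (by rw [e]; simp) hshort
  rcases h11 with e | e | e | e
  · rw [e] at hlong; simp at hlong
  · rw [e] at hlong; simp at hlong
  · exact fix7 L e h7'
  · have h := fix7 (W11 ++ L) (by rw [sigs_append, e, (hw 0 (by simp)).1]; rfl) (by
      rcases h7' with e7 | e7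
      · exact Or.inl (by rw [sigs_append, e7, (hw 7 (by simp)).1]; rfl)
      · exact Or.inr (by rw [sigs_append, e7, (hw 4 (by simp)).1]; rfl))
    rw [nProd_append] at h
    have := mul_mem (inv_mem (nProd_W11_mem (F := F))) h
    rwa [inv_mul_cancel_left] at this

theorem t0_commute (h : GL chevG2.Idx F) (hh : h ∈ CC F) : t0 F * h = h * t0 F := by
  obtain ⟨m, ⟨⟨A, B⟩, rfl⟩, x, y, rfl⟩ := mem_CC.1 hh
  have ht : ∀ x y : Fˣ, tor (1 : Fˣ) (-1) * tor x y = tor x y * tor (1 : Fˣ) (-1) := fun x y => by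
    rw [tor_mul, tor_mul, mul_comm x, mul_comm y]
  have h7 : tor (1 : Fˣ) (-1) * phi7 A = phi7 A * tor (1 : Fˣ) (-1) := by
    rw [← mul_inv_eq_iff_eq_mul, tor_conj7]
    congr 1
    ext i j
    fin_cases i <;> fin_cases j <;> simp [coe_dtwist]
  have h11 : tor (1 : Fˣ) (-1) * phi11 B = phi11 B * tor (1 : Fˣ) (-1) := by
    rw [← mul_inv_eq_iff_eq_mul, tor_conj11]
    congr 1
    ext i j
    fin_cases i <;> fin_cases j <;> simp [coe_dtwist]
  rw [t0, psi_apply]
  calc tor (1 : Fˣ) (-1) * (phi7 A * phi11 B * tor x y) = tor (1 : Fˣ) (-1) * phi7 A * phi11 B * tor x y := by group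
    _ = phi7 A * (tor (1 : Fˣ) (-1) * phi11 B) * tor x y := by rw [h7]; group
    _ = phi7 A * phi11 B * (tor (1 : Fˣ) (-1) * tor x y) := by rw [h11]; group
    _ = _ := by rw [ht]; group

theorem phi_mem_group (A : SpecialLinearGroup (Fin 2) F) :
    phi7 A ∈ chevG2.group F ∧ phi11 A ∈ chevG2.group F := by
  constructor
  · have h : phi7 A ∈ (phi7 (F := F)).range := ⟨A, rfl⟩
    rw [phi7_range] at h
    exact (sup_le (rootSubgroup_le_group' n7) (rootSubgroup_le_group' (by decide +kernel)) : _ ≤ chevG2.group F) h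
  · have h : phi11 A ∈ (phi11 (F := F)).range := ⟨A, rfl⟩
    rw [phi11_range] at h
    exact (sup_le (rootSubgroup_le_group' n11) (rootSubgroup_le_group' (by decide +kernel)) : _ ≤ chevG2.group F) h
where rootSubgroup_le_group' {r : ℕ} (hr : r < chevG2.nroots) : chevG2.rootSubgroup F r ≤ chevG2.group F :=
  fun g hg => by obtain ⟨t, rfl⟩ := (mem_rootSubgroup hcG hr).1 hg; exact elX_mem_group hcG hr t

theorem CC_le_group : CC F ≤ chevG2.group F := by
  refine sup_le ?_ ?_
  · rintro _ ⟨⟨A, B⟩, rfl⟩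
    rw [psi_apply]
    exact mul_mem (phi_mem_group A).1 (phi_mem_group B).2
  · rintro _ ⟨χ, rfl⟩
    exact diagonal_le_group hcG (tor_mem χ)

/-- The centraliser of `t0` in the group is `CC`. -/
theorem mem_CC_iff (h2 : (2 : F) ≠ 0) {g : GL chevG2.Idx F} :
    g ∈ CC F ↔ g ∈ chevG2.group F ∧ t0 F * g = g * t0 F := by
  refine ⟨fun h => ⟨CC_le_group h, t0_commute g h⟩, fun ⟨hg, hcom⟩ => ?_⟩
  obtain ⟨u, hu, k, hk, L, hL, v, hv, rfl⟩ :=
    exists_of_commute hcG hcommG (χ := chr (1 : Fˣ) (-1)) (tor_mem _) hg hcom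
  have hn : nProd chevG2 F L * t0 F = t0 F * nProd chevG2 F L := by
    have := nProd_conj_torus hcG (F := F) L (chr (1 : Fˣ) (-1))
    rw [hL, mul_inv_eq_iff_eq_mul] at this
    exact this
  obtain ⟨χ, rfl⟩ := (mem_diagonal hcG).1 hk
  exact mul_mem (mul_mem (Subgroup.mem_sup_left (fixRoot_le h2 _ hu))
    (mul_mem (Subgroup.mem_sup_right ⟨_, rfl⟩) (nProd_mem_CC h2 L hn))) (Subgroup.mem_sup_left (fixRoot_le h2 _ hv))

theorem psi_neg : psi (dd (-1 : Fˣ), dd (-1)) = 1 := by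
  rw [psi_apply, phi7_dd, phi11_dd, tor_mul, ← tor_one]
  congr 1
  · simp
  · rw [show ((-3 : ℤ)) = -((3 : ℕ) : ℤ) from rfl, _root_.zpow_neg, zpow_natCast]
    apply Units.ext
    simp [pow_succ]

theorem psi_ker {z : SpecialLinearGroup (Fin 2) F × SpecialLinearGroup (Fin 2) F} (h : psi z = 1) :
    z = 1 ∨ z = (dd (-1), dd (-1)) := by
  obtain ⟨A, B⟩ := z
  rw [← tor_one] at h
  obtain ⟨s, u, rfl, rfl, hs, hu⟩ := psi_eq_tor h
  have hs' : (s : F) = 1 ∨ (s : F) = -1 := by
    refine mul_self_eq_one_iff.1 ?_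
    rw [← Units.val_mul, ← sq, ← hs, Units.val_one]
  rcases hs' with e | e
  · have e1 : s = 1 := Units.ext e
    subst e1
    rw [_root_.one_zpow, one_mul] at hu
    exact Or.inl (by rw [← hu, dd_one]; rfl)
  · have e1 : s = -1 := Units.ext (by rw [e]; simp)
    subst e1
    have hu' : u = -1 := by
      apply Units.ext
      have h3 := congrArg Units.val hu
      rw [show ((-3 : ℤ)) = -((3 : ℕ) : ℤ) from rfl, _root_.zpow_neg, zpow_natCast] at h3
      simp [pow_succ] at h3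
      rw [Units.val_neg, Units.val_one]
      linear_combination h3
    exact Or.inr (by rw [hu'])

theorem phi_inf {g : GL chevG2.Idx F} (h7 : g ∈ (phi7 (F := F)).range) (h11 : g ∈ (phi11 (F := F)).range) :
    g = 1 ∨ g = t0 F := by
  obtain ⟨A, rfl⟩ := h7
  obtain ⟨B, hB⟩ := h11
  have h : psi (A, B⁻¹) = 1 := by rw [psi_apply, map_inv, hB, mul_inv_cancel]
  rcases psi_ker h with e | e
  · exact Or.inl (by rw [show A = 1 from congrArg Prod.fst e, map_one])
  · right
    rw [show A = dd (-1) from congrArg Prod.fst e, phi7_dd, t0]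
    congr 1
    · simp
    · rw [show ((-3 : ℤ)) = -((3 : ℕ) : ℤ) from rfl, _root_.zpow_neg, zpow_natCast]
      apply Units.ext
      simp [pow_succ]

theorem card_MM [Fintype F] (h2 : (2 : F) ≠ 0) :
    Nat.card (MM F) * 2 = (Fintype.card F * (Fintype.card F ^ 2 - 1)) ^ 2 := by
  haveI : Finite (SpecialLinearGroup (Fin 2) F) := inferInstance
  have hker : Nat.card (psi (F := F)).ker = 2 := by
    classical
    rw [Nat.card_eq_two_iff]
    refine ⟨1, ⟨(dd (-1), dd (-1)), MonoidHom.mem_ker.2 psi_neg⟩, fun h => dd_neg_one_ne_one h2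
      (congrArg Prod.fst (congrArg Subtype.val h)).symm, ?_⟩
    ext ⟨z, hz⟩
    simp only [Set.mem_insert_iff, Set.mem_singleton_iff, Set.mem_univ, iff_true, Subtype.ext_iff]
    exact psi_ker (MonoidHom.mem_ker.1 hz)
  have h := Subgroup.card_eq_card_quotient_mul_card_subgroup (psi (F := F)).ker
  rw [hker, Nat.card_congr (QuotientGroup.quotientKerEquivRange (psi (F := F))).toEquiv, Nat.card_prod,
    CfsgLib.Linear.card_SL_two] at h
  rw [sq, h]
  rfl

theorem exists_nonsquare [Fintype F] (h2 : (2 : F) ≠ 0) : ∃ x : Fˣ, ¬ IsSquare x := by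
  obtain ⟨a, ha⟩ := FiniteField.exists_nonsquare (F := F)
    (fun h => h2 (by haveI := ringChar.of_eq h; exact_mod_cast CharP.cast_eq_zero F 2))
  have ha0 : a ≠ 0 := fun h => ha (h ▸ IsSquare.zero)
  exact ⟨Units.mk0 a ha0, fun ⟨r, hr⟩ => ha ⟨r, congrArg Units.val hr⟩⟩

theorem mul_isSquare [Fintype F] {x y : Fˣ} (hx : ¬ IsSquare x) (hy : ¬ IsSquare y) : IsSquare (x * y) := by
  obtain ⟨r, hr⟩ := SteinbergTwo.isSquare_mul_of_not (K := F) (s := (x : F)) (t := (y : F))
    (fun ⟨r, hr⟩ => hx ⟨Units.mk0 r (fun h => x.ne_zero (by rw [hr, h, mul_zero])), Units.ext hr⟩)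
    (fun ⟨r, hr⟩ => hy ⟨Units.mk0 r (fun h => y.ne_zero (by rw [hr, h, mul_zero])), Units.ext hr⟩)
  exact ⟨Units.mk0 r (fun h => (x * y).ne_zero (by rw [Units.val_mul, hr, h, mul_zero])),
    Units.ext ((Units.val_mul x y).trans hr)⟩

theorem relIndex_MM [Fintype F] (h2 : (2 : F) ≠ 0) : (MM F).relIndex (CC F) = 2 := by
  obtain ⟨ν, hν⟩ := exists_nonsquare h2
  rw [Subgroup.relIndex, Subgroup.index_eq_two_iff]
  refine ⟨⟨tor ν 1, Subgroup.mem_sup_right ⟨_, rfl⟩⟩, fun b => ?_⟩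
  obtain ⟨m, hm, x, y, hb⟩ := mem_CC.1 b.2
  simp only [Subgroup.mem_subgroupOf, Subgroup.coe_mul, hb]
  rw [mul_assoc m, tor_mul, (MM F).mul_mem_cancel_left hm, (MM F).mul_mem_cancel_left hm, tor_mem_MM_iff,
    tor_mem_MM_iff]
  by_cases hx : IsSquare x
  · refine Or.inr ⟨hx, ?_⟩
    rintro ⟨r, hr⟩
    obtain ⟨s, rfl⟩ := hx
    exact hν ⟨r / s, by rw [div_mul_div_comm, ← hr, mul_div_cancel_left]⟩
  · exact Or.inl ⟨mul_isSquare hx hν, hx⟩

theorem card_CC [Fintype F] (h2 : (2 : F) ≠ 0) :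
    Nat.card (CC F) = Fintype.card F ^ 2 * (Fintype.card F ^ 2 - 1) ^ 2 := by
  have h := Subgroup.card_mul_index ((MM F).subgroupOf (CC F))
  have hle : MM F ≤ CC F := le_sup_left
  rw [Nat.card_congr (Subgroup.subgroupOfEquivOfLe hle).toEquiv,
    ← Subgroup.relIndex, relIndex_MM h2, card_MM h2, mul_pow] at h
  exact h.symm

end CfsgLib.G2Invol
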