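import Cfsg.Agent.Lib.G2Invol.Cent
import Cfsg.Agent.Lib.Chev.OrderCases
import Cfsg.Agent.Lib.ChevPerfect.Main
import Cfsg.Agent.Lib.Fusion.ThompsonTransfer

/-!
One class of involutions in G₂ over a field of odd order.
-/

set_option autoImplicit false
set_option linter.unusedSectionVars false

namespace CfsgLib.G2Invol

open Cfsg.Lie CfsgLib.Chev CfsgLib.ChevSL2 CfsgLib.SteinbergTwo
open Matrix

variable {F : Type*} [Field F]

/-- conjugacy under the group -/
def GConj (a b : GL chevG2.Idx F) : Prop := ∃ g ∈ chevG2.group F, g * a * g⁻¹ = b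

theorem GConj.symm {a b : GL chevG2.Idx F} (h : GConj a b) : GConj b a := by
  obtain ⟨g, hg, rfl⟩ := h
  exact ⟨g⁻¹, inv_mem hg, by group⟩

theorem GConj.trans {a b c : GL chevG2.Idx F} (h : GConj a b) (h' : GConj b c) : GConj a c := by
  obtain ⟨g, hg, rfl⟩ := h
  obtain ⟨k, hk, rfl⟩ := h'
  exact ⟨k * g, mul_mem hk hg, by group⟩

theorem psi_mem_group (z : SpecialLinearGroup (Fin 2) F × SpecialLinearGroup (Fin 2) F) :
    psi z ∈ chevG2.group F := by
  rw [show z = (z.1, z.2) from rfl, psi_apply]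
  exact mul_mem (phi_mem_group z.1).1 (phi_mem_group z.2).2

/-- the element lifting the central element of the Weyl group -/
noncomputable def n0 (F : Type*) [Field F] : GL chevG2.Idx F := psi (jj, jj)

theorem neg_one_pow_three : (-1 : Fˣ) ^ 3 = -1 := by
  apply Units.ext
  simp [pow_succ]

theorem n0_sq : n0 F * n0 F = 1 := by
  rw [n0, ← map_mul, Prod.mk_mul_mk, jj_sq, psi_neg]

theorem n0_conj_tor (x y : Fˣ) : n0 F * tor x y = (tor x y)⁻¹ * n0 F := by
  have e : ∀ a : Fˣ, dtwist a (jj : SpecialLinearGroup (Fin 2) F) = dd a * jj := fun a => by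
    ext i j
    fin_cases i <;> fin_cases j <;>
      simp [coe_dtwist, coe_jj, coe_dd, SpecialLinearGroup.coe_mul, mul_apply, Fin.sum_univ_two]
  have h : tor x y * n0 F * (tor x y)⁻¹ = tor (x ^ 2) (y ^ 2) * n0 F := by
    rw [n0, psi_apply, show tor x y * (phi7 jj * phi11 jj) * (tor x y)⁻¹ =
      (tor x y * phi7 jj * (tor x y)⁻¹) * (tor x y * phi11 jj * (tor x y)⁻¹) by group, tor_conj7, tor_conj11, e, e,
      map_mul, map_mul]
    have hd : phi7 (dd x) * phi11 (dd (x ^ 3 * y ^ 2)) = tor (x ^ 2) (y ^ 2) := by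
      rw [phi7_dd, phi11_dd, tor_mul, mul_one]
      congr 1
      rw [show ((-3 : ℤ)) = -((3 : ℕ) : ℤ) from rfl, _root_.zpow_neg, zpow_natCast, inv_mul_cancel_left]
    rw [← hd]
    have c := commute_phi (F := F) jj (dd (x ^ 3 * y ^ 2))
    calc phi7 (dd x) * phi7 jj * (phi11 (dd (x ^ 3 * y ^ 2)) * phi11 jj)
        = phi7 (dd x) * (phi7 jj * phi11 (dd (x ^ 3 * y ^ 2))) * phi11 jj := by group
      _ = _ := by rw [c.eq]; group
  have hsq : tor (x ^ 2) (y ^ 2) = tor x y * tor x y := by rw [tor_mul, sq, sq]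
  rw [hsq] at h
  have h1 : n0 F * (tor x y)⁻¹ = tor x y * n0 F := by
    apply mul_left_cancel (a := tor x y)
    rw [← mul_assoc, ← mul_assoc, h]
  calc n0 F * tor x y = (tor x y)⁻¹ * (tor x y * n0 F) * tor x y := by group
    _ = (tor x y)⁻¹ * (n0 F * (tor x y)⁻¹) * tor x y := by rw [h1]
    _ = _ := by group

theorem n0_ne_tor (x y : Fˣ) : n0 F ≠ tor x y := by
  intro h
  obtain ⟨s, u, hj, -⟩ := psi_eq_tor h
  have := congrArg (fun g : SpecialLinearGroup (Fin 2) F => g 0 1) hj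
  simp [coe_jj, coe_dd] at this

theorem conj_tor_ia (x y : Fˣ) :
    nProd chevG2 F [ia] * tor x y * (nProd chevG2 F [ia])⁻¹ = tor x⁻¹ (x ^ 3 * y) := by
  rw [tor, tor, nProd_conj_torus hcG]
  congr 1
  rw [chr_ext (χ := reflChars [ia] (chr x y))]
  have e : ∀ j, reflChars [ia] (chr x y) j = chi (chr x y) (refl chevG2 ia (Pi.single j 1)) := fun j => rfl
  congr 1
  · rw [e, chi_rank, chr_ia, chr_ib, show refl chevG2 ia (Pi.single ia 1) ia = -1 by decide +kernel,
      show refl chevG2 ia (Pi.single ia 1) ib = 0 by decide +kernel, zpow_zero, mul_one, _root_.zpow_neg_one]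
  · rw [e, chi_rank, chr_ia, chr_ib, show refl chevG2 ia (Pi.single ib 1) ia = 3 by decide +kernel,
      show refl chevG2 ia (Pi.single ib 1) ib = 1 by decide +kernel, zpow_one, zpow_ofNat]

theorem conj_tor_ib (x y : Fˣ) :
    nProd chevG2 F [ib] * tor x y * (nProd chevG2 F [ib])⁻¹ = tor (x * y) y⁻¹ := by
  rw [tor, tor, nProd_conj_torus hcG]
  congr 1
  rw [chr_ext (χ := reflChars [ib] (chr x y))]
  have e : ∀ j, reflChars [ib] (chr x y) j = chi (chr x y) (refl chevG2 ib (Pi.single j 1)) := fun j => rfl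
  congr 1
  · rw [e, chi_rank, chr_ia, chr_ib, show refl chevG2 ib (Pi.single ia 1) ia = 1 by decide +kernel,
      show refl chevG2 ib (Pi.single ia 1) ib = 1 by decide +kernel, zpow_one, zpow_one]
  · rw [e, chi_rank, chr_ia, chr_ib, show refl chevG2 ib (Pi.single ib 1) ia = 0 by decide +kernel,
      show refl chevG2 ib (Pi.single ib 1) ib = -1 by decide +kernel, zpow_zero, one_mul, _root_.zpow_neg_one]

theorem nProd_mem_group (L : List (Fin chevG2.rank)) : nProd chevG2 F L ∈ chevG2.group F :=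
  monomial_le_group hcG (nProd_mem_monomial hcG L)

theorem tor_h_conj : GConj (tor (-1 : Fˣ) (-1)) (t0 F) ∧ GConj (tor (-1 : Fˣ) 1) (t0 F) := by
  have h1 : GConj (tor (-1 : Fˣ) (-1)) (t0 F) := by
    refine ⟨_, nProd_mem_group [ib], ?_⟩
    rw [conj_tor_ib, t0]
    simp
  refine ⟨h1, GConj.trans (GConj.symm ⟨_, nProd_mem_group [ia], ?_⟩) h1⟩
  rw [conj_tor_ia]
  simp [pow_succ]

/-- the outer lifts are conjugate to their torus parts -/
theorem n0_tor_conj (h2 : (2 : F) ≠ 0) {y : Fˣ} (hy : y ^ 2 = 1) :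
    GConj (n0 F * tor (-1) y) (tor (-1) y) := by
  obtain ⟨g, hg⟩ : ∃ g : SpecialLinearGroup (Fin 2) F,
      (g : Matrix (Fin 2) (Fin 2) F) = !![1, -1; (2 : F)⁻¹, (2 : F)⁻¹] :=
    ⟨⟨_, by rw [det_fin_two_of]; field_simp; norm_num⟩, rfl⟩
  have hkey : g * jj = dtwist (-1) g := by
    ext i j
    fin_cases i <;> fin_cases j <;>
      simp [coe_dtwist, coe_jj, hg, SpecialLinearGroup.coe_mul, mul_apply, Fin.sum_univ_two]
  refine ⟨psi (g, g), psi_mem_group _, ?_⟩
  have hconj : tor (-1) y * psi (g, g) * (tor (-1) y)⁻¹ = psi (g * jj, g * jj) := by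
    rw [psi_apply, show tor (-1) y * (phi7 g * phi11 g) * (tor (-1) y)⁻¹ =
      (tor (-1) y * phi7 g * (tor (-1) y)⁻¹) * (tor (-1) y * phi11 g * (tor (-1) y)⁻¹) by group,
      tor_conj7, tor_conj11, hkey, psi_apply]
    congr 3
    rw [hy, mul_one, neg_one_pow_three]
  rw [← mul_assoc, n0, ← map_mul, Prod.mk_mul_mk, ← hconj]
  group

theorem n0_mem_W0 : ∃ a ∈ chevG2.diagonalSubgroup F, ∃ b ∈ chevG2.diagonalSubgroup F,
    n0 F = a * nProd chevG2 F W0 * b := by
  obtain ⟨k', hk', c, hA⟩ := nProd_W11' (F := F)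
  refine ⟨(tor 1 c)⁻¹, inv_mem (tor_mem _), k'⁻¹, inv_mem hk', ?_⟩
  have h7 : nProd chevG2 F [ia] = phi7 jj := by
    rw [nProd_cons, nProd_nil, mul_one, show chevG2.simple ia.val = 7 from by decide +kernel,
      hom_jj hcG n7 phi7 phi7_img]
  have hww : ww (c : F) c.ne_zero = dd c * jj := by
    ext i j
    fin_cases i <;> fin_cases j <;>
      simp [coe_ww, coe_jj, coe_dd, SpecialLinearGroup.coe_mul, mul_apply, Fin.sum_univ_two]
  rw [show W0 = [ia] ++ W11 from rfl, nProd_append, h7, hA, hww, map_mul, ← phi11_dd, n0, psi_apply]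
  have hcm := (commute_phi (F := F) jj (dd c)).eq
  calc phi7 jj * phi11 jj = (phi11 (dd c))⁻¹ * (phi11 (dd c) * phi7 jj) * phi11 jj := by group
    _ = (phi11 (dd c))⁻¹ * (phi7 jj * phi11 (dd c)) * phi11 jj := by rw [hcm]
    _ = _ := by group

theorem exists_inner_conj [Fintype F] (h2 : (2 : F) ≠ 0) : ∃ w ∈ MM F, w ≠ t0 F ∧ GConj w (t0 F) := by
  by_cases hsq : IsSquare (-1 : Fˣ)
  · refine ⟨tor (-1) 1, (tor_mem_MM_iff _ _).2 hsq, fun h => ?_, tor_h_conj.2⟩
    exact neg_one_unit h2 (tor_inj h).1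
  set m := nProd chevG2 F [ib]
  obtain ⟨a, ha, b, hb, hn⟩ := n0_mem_W0 (F := F)
  have hs : ∀ r : Fin chevG2.nroots,
      sigs chevG2 G2.tabs ([ib] ++ W0) r.val = sigs chevG2 G2.tabs (W0 ++ [ib]) r.val := by decide +kernel
  have hd := nProd_div_mem hcG (F := F) (L := [ib] ++ W0) (M := W0 ++ [ib]) fun r hr => hs ⟨r, hr⟩
  rw [nProd_append, nProd_append] at hd
  set e := m * nProd chevG2 F W0 * (nProd chevG2 F W0 * m)⁻¹ with hedef
  have hm : ∀ {x : GL chevG2.Idx F}, x ∈ chevG2.diagonalSubgroup F → m * x * m⁻¹ ∈ chevG2.diagonalSubgroup F :=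
    fun hx => nProd_conj_diagonal hcG [ib] hx
  have hdiag : ∀ {x : GL chevG2.Idx F}, x ∈ chevG2.diagonalSubgroup F → ∃ u v : Fˣ, x = tor u v := fun hx => by
    obtain ⟨χ, rfl⟩ := (mem_diagonal hcG).1 hx
    exact ⟨_, _, by rw [tor, ← chr_ext]⟩
  obtain ⟨u, v, hu⟩ := hdiag (mul_mem (mul_mem (hm ha) hd) (inv_mem ha))
  obtain ⟨u', v', hu'⟩ := hdiag (mul_mem (inv_mem hb) (hm hb))
  have hmn : m * n0 F * m⁻¹ = n0 F * tor (u⁻¹ * u') (v⁻¹ * v') := by
    have h1 : m * n0 F * m⁻¹ = (m * a * m⁻¹) * e * a⁻¹ * n0 F * (b⁻¹ * (m * b * m⁻¹)) := by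
      rw [hn, hedef]; group
    rw [h1, hu, hu', ← tor_mul, ← mul_assoc (n0 F), n0_conj_tor]
    congr 2
    exact (inv_eq_of_mul_eq_one_right (by rw [tor_mul, inv_mul_cancel, inv_mul_cancel, tor_one])).symm
  set τ := u⁻¹ * u'
  obtain ⟨y, hy, htgt⟩ : ∃ y : Fˣ, y ^ 2 = 1 ∧ IsSquare (τ * ((-1) * y)) := by
    by_cases ht : IsSquare τ
    · exact ⟨-1, by simp, by simpa using ht⟩
    · exact ⟨1, one_pow _, by rw [mul_one]; exact mul_isSquare ht hsq⟩
  have hw : m * (n0 F * tor (-1) y) * m⁻¹ = n0 F * tor (τ * ((-1) * y)) (v⁻¹ * v' * y⁻¹) := by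
    rw [show m * (n0 F * tor (-1) y) * m⁻¹ = (m * n0 F * m⁻¹) * (m * tor (-1) y * m⁻¹) by group, hmn,
      conj_tor_ib, mul_assoc, tor_mul]
  refine ⟨_, mul_mem (⟨(jj, jj), rfl⟩ : n0 F ∈ MM F) ((tor_mem_MM_iff _ (v⁻¹ * v' * y⁻¹)).2 htgt), fun h => ?_, ?_⟩
  · rw [t0, ← eq_mul_inv_iff_mul_eq] at h
    have hi : (tor (τ * ((-1) * y)) (v⁻¹ * v' * y⁻¹))⁻¹ = tor (τ * ((-1) * y))⁻¹ (v⁻¹ * v' * y⁻¹)⁻¹ :=
      inv_eq_of_mul_eq_one_right (by rw [tor_mul, mul_inv_cancel, mul_inv_cancel, tor_one])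
    rw [hi, tor_mul] at h
    exact n0_ne_tor _ _ h
  · rw [← hw]
    refine GConj.trans (GConj.symm ⟨m, nProd_mem_group [ib], rfl⟩) (GConj.trans (n0_tor_conj h2 hy) ?_)
    have hy' : y = 1 ∨ y = -1 := by
      rcases mul_self_eq_one_iff.1 (show (y : F) * y = 1 by rw [← Units.val_mul, ← sq, hy, Units.val_one]) with e | e
      · exact Or.inl (Units.ext e)
      · exact Or.inr (Units.ext (by rw [e]; simp))
    rcases hy' with rfl | rfl
    · exact tor_h_conj.2
    · exact tor_h_conj.1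

theorem inner_involution [Fintype F] (hodd : Fintype.card F % 2 = 1) (h2 : (2 : F) ≠ 0) {s : GL chevG2.Idx F}
    (hs : s ∈ MM F) (hne : s ≠ 1) (hsq : s * s = 1) : s = t0 F ∨ GConj s (n0 F) := by
  obtain ⟨⟨A, B⟩, rfl⟩ := hs
  rw [← map_mul, Prod.mk_mul_mk] at hsq
  rcases psi_ker hsq with e | e
  · left
    obtain ⟨eA, eB⟩ := Prod.mk.inj e
    have h7 : phi7 (dd (-1 : Fˣ)) = t0 F := by
      rw [phi7_dd, t0]
      congr 1
      · simp
      · rw [show ((-3 : ℤ)) = -((3 : ℕ) : ℤ) from rfl, _root_.zpow_neg, zpow_natCast]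
        apply Units.ext
        simp [pow_succ]
    rcases eq_one_of_sq_eq_one h2 eA with rfl | rfl <;> rcases eq_one_of_sq_eq_one h2 eB with rfl | rfl
    · exact absurd (map_one psi) hne
    · rw [psi_apply, map_one, one_mul, phi11_dd, t0]
    · rw [psi_apply, map_one, mul_one, h7]
    · exact absurd psi_neg hne
  · right
    obtain ⟨eA, eB⟩ := Prod.mk.inj e
    obtain ⟨P, hP⟩ := exists_conj_jj hodd h2 eA
    obtain ⟨Q, hQ⟩ := exists_conj_jj hodd h2 eB
    refine GConj.symm ⟨psi (P, Q), psi_mem_group _, ?_⟩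
    rw [n0, mul_inv_eq_iff_eq_mul, ← map_mul, ← map_mul, Prod.mk_mul_mk, Prod.mk_mul_mk, hP, hQ]

/-- every involution is conjugate to `t0` -/
theorem involution_conj [Fintype F] (hF : Odd (Fintype.card F)) {s : ↥(chevG2.group F)} (hs : orderOf s = 2) :
    GConj (s : GL chevG2.Idx F) (t0 F) := by
  classical
  have hodd : Fintype.card F % 2 = 1 := Nat.odd_iff.1 hF
  have h2 : (2 : F) ≠ 0 := fun h => by
    haveI : CharP F 2 := CharTwo.of_one_ne_zero_of_two_eq_zero one_ne_zero h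
    obtain ⟨n, -, hn⟩ := FiniteField.card F 2
    rw [hn, Nat.pow_mod, Nat.mod_self, Nat.zero_pow n.pos, Nat.zero_mod] at hodd
    exact zero_ne_one hodd
  haveI : Finite (GL chevG2.Idx F) := inferInstance
  obtain ⟨w, hwM, hwne, hwc⟩ := exists_inner_conj (F := F) h2
  have hinner : ∀ x : GL chevG2.Idx F, x ∈ MM F → x ≠ 1 → x * x = 1 → GConj x (t0 F) := by
    intro x hx hx1 hxx
    rcases inner_involution hodd h2 hx hx1 hxx with rfl | h
    · exact ⟨1, one_mem _, by group⟩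
    · refine h.trans ?_
      obtain ⟨g, hg, hgw⟩ := hwc
      have ht : t0 F * t0 F = 1 := by rw [t0, tor_mul, one_mul, neg_one_mul, neg_neg, tor_one]
      have hw1 : w ≠ 1 := fun e => by
        rw [e, mul_one, mul_inv_cancel] at hgw
        exact neg_one_unit h2 (tor_inj (hgw.symm.trans tor_one.symm)).2
      have hww : w * w = 1 := by
        rw [← hgw] at ht
        rw [show g * w * g⁻¹ * (g * w * g⁻¹) = g * (w * w) * g⁻¹ by group, conj_eq_one_iff] at ht
        exact ht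
      exact GConj.trans ((inner_involution hodd h2 hwM hw1 hww).resolve_left hwne).symm ⟨g, hg, hgw⟩
  let G := chevG2.group F
  set C := (CC F).subgroupOf G with hC
  have hGcard := card_group_G2 (F := F) rfl
  have hCindex : Odd C.index := by
    have h := C.card_mul_index
    rw [hC, Nat.card_congr (Subgroup.subgroupOfEquivOfLe CC_le_group).toEquiv, card_CC h2, hGcard, ← hC] at h
    set q := Fintype.card F with hq
    have hq1 : 1 < q := Fintype.one_lt_card
    have h6 : q ^ 6 - 1 = (q ^ 2 - 1) * (q ^ 4 + q ^ 2 + 1) := by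
      have : (q ^ 2 - 1) + 1 = q ^ 2 := Nat.sub_add_cancel (Nat.one_le_pow _ _ (by omega))
      generalize q ^ 2 - 1 = a at this ⊢
      rw [show q ^ 6 = (q ^ 2) ^ 3 by ring, show q ^ 4 = (q ^ 2) ^ 2 by ring, ← this]
      apply Nat.sub_eq_of_eq_add
      ring
    have he : C.index = q ^ 4 * (q ^ 4 + q ^ 2 + 1) := by
      refine Nat.eq_of_mul_eq_mul_left (n := q ^ 2 * (q ^ 2 - 1) ^ 2) ?_ (h.trans ?_)
      · have : 1 < q ^ 2 := Nat.one_lt_pow (by norm_num) hq1
        exact Nat.mul_pos (by positivity) (pow_pos (by omega) _)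
      · rw [h6]; ring
    rw [he]
    exact hF.pow.mul ((hF.pow.add_odd hF.pow).add_one)
  have hsz : IsPGroup 2 (Subgroup.zpowers s) :=
    IsPGroup.of_card (n := 1) (by rw [Nat.card_zpowers, hs, pow_one])
  obtain ⟨S, hS⟩ := hsz.exists_le_sylow
  obtain ⟨S', hS'⟩ : ∃ S' : Sylow 2 ↥G, (S' : Subgroup ↥G) ≤ C := by
    obtain ⟨R⟩ : Nonempty (Sylow 2 ↥C) := inferInstance
    obtain ⟨S', hS'⟩ := (R.isPGroup'.map C.subtype).exists_le_sylow
    have hR : ((R : Subgroup ↥C).map C.subtype).index % 2 = 1 := by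
      rw [Subgroup.index_map_subtype]
      exact Nat.odd_iff.1 (((Nat.odd_iff.2 (Nat.two_dvd_ne_zero.1 R.not_dvd_index))).mul hCindex)
    refine ⟨S', ?_⟩
    have he : (R : Subgroup ↥C).map C.subtype = (S' : Subgroup ↥G) := by
      refine le_antisymm hS' fun x hx => ?_
      have h1 := Subgroup.relIndex_mul_index hS'
      obtain ⟨n, hn⟩ := IsPGroup.iff_card.1 S'.isPGroup'
      have h2' : (((R : Subgroup ↥C).map C.subtype).relIndex (S' : Subgroup ↥G)) ∣ 2 ^ n :=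
        hn ▸ Subgroup.relIndex_dvd_card _ _
      obtain ⟨i, -, hi⟩ := (Nat.dvd_prime_pow Nat.prime_two).1 h2'
      rw [hi] at h1
      rcases Nat.eq_zero_or_pos i with rfl | hi0
      · exact Subgroup.relIndex_eq_one.1 (by rw [hi, pow_zero]) hx
      · rw [← h1, Nat.mul_mod, Nat.pow_mod, Nat.mod_self, Nat.zero_pow hi0] at hR
        simp at hR
    rw [← he]
    exact Subgroup.map_subtype_le _
  obtain ⟨g, hg⟩ := MulAction.exists_smul_eq ↥G S S'
  have hs'C : g * s * g⁻¹ ∈ (S' : Subgroup ↥G) := by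
    rw [← hg]
    exact ⟨s, hS (Subgroup.mem_zpowers s), rfl⟩
  set s' := g * s * g⁻¹ with hs'def
  have hs' : orderOf s' = 2 := by rw [hs'def, show g * s * g⁻¹ = MulAut.conj g s from rfl, MulEquiv.orderOf_eq, hs]
  have hto : GConj (s' : GL chevG2.Idx F) (t0 F) → GConj (s : GL chevG2.Idx F) (t0 F) :=
    GConj.trans ⟨g, g.2, by simp [hs'def]⟩
  have hval : ∀ x : ↥G, orderOf x = 2 → (x : GL chevG2.Idx F) ≠ 1 ∧ (x : GL chevG2.Idx F) * x = 1 := by
    intro x hx
    refine ⟨fun h => ?_, ?_⟩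
    · rw [show x = 1 from Subtype.ext h, orderOf_one] at hx; norm_num at hx
    · rw [← Subgroup.coe_mul, ← sq, ← hx, pow_orderOf_eq_one, Subgroup.coe_one]
  refine hto ?_
  by_cases hin : (s' : GL chevG2.Idx F) ∈ MM F
  · exact hinner _ hin (hval _ hs').1 (hval _ hs').2
  set Q := (S' : Subgroup ↥G) ⊓ (MM F).subgroupOf G
  have hQ : Q.relIndex (S' : Subgroup ↥G) = 2 := by
    rw [Subgroup.relIndex, Subgroup.index_eq_two_iff]
    refine ⟨⟨s', hs'C⟩, fun b => ?_⟩
    have hrel := relIndex_MM (F := F) h2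
    rw [Subgroup.relIndex] at hrel
    have key := Subgroup.mul_mem_iff_of_index_two hrel
      (a := ⟨((b : ↥G) : GL chevG2.Idx F), hS' b.2⟩) (b := ⟨(s' : GL chevG2.Idx F), hS' hs'C⟩)
    simp only [Subgroup.mem_subgroupOf, Subgroup.coe_mul] at key
    simp only [Q, Subgroup.mem_subgroupOf, Subgroup.mem_inf, Subgroup.coe_mul]
    have hb := b.2
    have hbs : (b : ↥G) * s' ∈ (S' : Subgroup ↥G) := mul_mem hb hs'C
    by_cases hbM : ((b : ↥G) : GL chevG2.Idx F) ∈ MM F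
    · exact Or.inr ⟨⟨hb, hbM⟩, fun h => hin ((key.1 h.2).1 hbM)⟩
    · exact Or.inl ⟨⟨hbs, key.2 ⟨fun h => absurd h hbM, fun h => absurd h hin⟩⟩, fun h => hbM h.2⟩
  by_contra hno
  have hperf : commutator ↥G = ⊤ := ChevPerfect.commutator_group_eq_top (by simp) fun _ =>
    ⟨-1, neg_ne_zero.2 one_ne_zero, fun h => h2 (by linear_combination -h)⟩
  obtain ⟨M, -, hMi, hM⟩ := ThompsonTransfer.exists_normal_index_two (S' : Subgroup ↥G) Q
    (Nat.odd_iff.2 (Nat.two_dvd_ne_zero.1 S'.not_dvd_index)) hQ s' (by rw [← hs', pow_orderOf_eq_one]) fun x hx => by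
      refine hno (GConj.trans ⟨x, x.2, by simp⟩ (hinner ((x * s' * x⁻¹ : ↥G) : GL chevG2.Idx F) hx.2 ?_ ?_))
      all_goals
        have hx2 : orderOf (x * s' * x⁻¹) = 2 := by
          rw [show x * s' * x⁻¹ = MulAut.conj x s' from rfl, MulEquiv.orderOf_eq, hs']
      · exact (hval _ hx2).1
      · exact (hval _ hx2).2
  refine hM ((show commutator ↥G ≤ M from ?_) (by rw [hperf]; exact Subgroup.mem_top _))
  rw [commutator_def, Subgroup.commutator_le]
  intro a _ b _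
  rw [commutatorElement_def, Subgroup.mul_mem_iff_of_index_two hMi, Subgroup.mul_mem_iff_of_index_two hMi,
    Subgroup.mul_mem_iff_of_index_two hMi, Subgroup.inv_mem_iff, Subgroup.inv_mem_iff]
  tauto

end CfsgLib.G2Invol
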