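import Cfsg.Agent.Lib.ChevSL2.Hom
import Cfsg.Agent.Lib.Chev.Borel
import Mathlib.FieldTheory.Finite.Basic

/-!
Elements of order four in SL(2), diagonal twists, and the kernel of a root pair homomorphism.
-/

set_option autoImplicit false
set_option linter.unusedSectionVars false

namespace CfsgLib.G2Invol

open Cfsg.Lie CfsgLib.Chev CfsgLib.ChevSL2 CfsgLib.SteinbergTwo
open Matrix

variable {F : Type*} [Field F]

/-- `[[0,1],[-1,0]]` -/
def jj : SpecialLinearGroup (Fin 2) F := ⟨!![0, 1; -1, 0], by simp [det_fin_two]⟩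

/-- `diag (s, s⁻¹)` -/
def dd (s : Fˣ) : SpecialLinearGroup (Fin 2) F := ⟨!![(s : F), 0; 0, (s⁻¹ : Fˣ)], by simp [det_fin_two]⟩

theorem coe_jj : ((jj : SpecialLinearGroup (Fin 2) F) : Matrix (Fin 2) (Fin 2) F) = !![0, 1; -1, 0] := rfl

theorem coe_dd (s : Fˣ) : (dd s : Matrix (Fin 2) (Fin 2) F) = !![(s : F), 0; 0, (s⁻¹ : Fˣ)] := rfl

/-- the function behind `dtwist` -/
def dtw (c : Fˣ) (g : SpecialLinearGroup (Fin 2) F) : SpecialLinearGroup (Fin 2) F :=
  ⟨!![g 0 0, (c : F) * g 0 1; (c⁻¹ : Fˣ) * g 1 0, g 1 1], by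
    have h : g 0 0 * g 1 1 - g 0 1 * g 1 0 = 1 := by rw [← det_fin_two]; exact g.2
    simp only [det_fin_two_of, Units.val_inv_eq_inv_val]
    field_simp
    linear_combination h⟩

theorem coe_dtw (c : Fˣ) (g : SpecialLinearGroup (Fin 2) F) :
    (dtw c g : Matrix (Fin 2) (Fin 2) F) = !![g 0 0, (c : F) * g 0 1; (c⁻¹ : Fˣ) * g 1 0, g 1 1] := rfl

/-- Conjugation by `diag (c, 1)`. -/
def dtwist (c : Fˣ) : SpecialLinearGroup (Fin 2) F →* SpecialLinearGroup (Fin 2) F where
  toFun := dtw c
  map_one' := by ext i j; fin_cases i <;> fin_cases j <;> simp [coe_dtw]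
  map_mul' g h := by
    ext i j
    fin_cases i <;> fin_cases j <;>
      simp [coe_dtw, SpecialLinearGroup.coe_mul, mul_apply, Fin.sum_univ_two] <;> field_simp <;> ring

theorem coe_dtwist (c : Fˣ) (g : SpecialLinearGroup (Fin 2) F) :
    (dtwist c g : Matrix (Fin 2) (Fin 2) F) = !![g 0 0, (c : F) * g 0 1; (c⁻¹ : Fˣ) * g 1 0, g 1 1] := rfl

/-- `[[0,t],[-1/t,0]]` -/
def ww (t : F) (ht : t ≠ 0) : SpecialLinearGroup (Fin 2) F := ⟨!![0, t; -t⁻¹, 0], by simp [det_fin_two, ht]⟩

theorem coe_ww (t : F) (ht : t ≠ 0) : (ww t ht : Matrix (Fin 2) (Fin 2) F) = !![0, t; -t⁻¹, 0] := rfl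

theorem dtwist_img (c : Fˣ) (b : Bool) (t : F) :
    dtwist c (img F (b, t)) = img F (b, (if b then (c : F) else ((c⁻¹ : Fˣ) : F)) * t) := by
  apply Subtype.ext
  rw [coe_dtwist, coe_img, coe_img]
  cases b <;> simp [coe_img]

theorem jj_sq : (jj : SpecialLinearGroup (Fin 2) F) * jj = dd (-1) := by
  ext i j
  fin_cases i <;> fin_cases j <;> simp [SpecialLinearGroup.coe_mul, coe_jj, coe_dd, mul_apply, Fin.sum_univ_two]

theorem dd_mul (s t : Fˣ) : dd s * dd t = dd (s * t) := by
  ext i j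
  fin_cases i <;> fin_cases j <;> simp [SpecialLinearGroup.coe_mul, coe_dd, mul_apply, Fin.sum_univ_two, mul_comm]

theorem dd_one : dd (1 : Fˣ) = 1 := by
  ext i j
  fin_cases i <;> fin_cases j <;> simp [coe_dd]

theorem dd_neg_one_commute (g : SpecialLinearGroup (Fin 2) F) : dd (-1) * g = g * dd (-1) := by
  ext i j
  fin_cases i <;> fin_cases j <;> simp [SpecialLinearGroup.coe_mul, coe_dd, mul_apply, Fin.sum_univ_two]

theorem dd_neg_one_ne_one (h2 : (2 : F) ≠ 0) : dd (-1 : Fˣ) ≠ 1 := by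
  intro h
  have := congrArg (fun g : SpecialLinearGroup (Fin 2) F => g 0 0) h
  simp [coe_dd] at this
  exact h2 (by linear_combination -this)

theorem eq_one_of_sq_eq_one (h2 : (2 : F) ≠ 0) {A : SpecialLinearGroup (Fin 2) F} (h : A * A = 1) :
    A = 1 ∨ A = dd (-1) := by
  have hdet : A 0 0 * A 1 1 - A 0 1 * A 1 0 = 1 := by rw [← det_fin_two]; exact A.2
  have e := fun i j => congrArg (fun g : SpecialLinearGroup (Fin 2) F => g i j) h
  have e00 := e 0 0; have e01 := e 0 1; have e10 := e 1 0; have e11 := e 1 1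
  simp [mul_apply, Fin.sum_univ_two] at e00 e01 e10 e11
  have htr : A 0 0 + A 1 1 ≠ 0 := by
    intro hs
    apply h2
    linear_combination -e00 - hdet + A 0 0 * hs
  have hb : A 0 1 = 0 := (mul_eq_zero.1 (show (A 0 0 + A 1 1) * A 0 1 = 0 by linear_combination e01)).resolve_left htr
  have hc : A 1 0 = 0 := (mul_eq_zero.1 (show (A 0 0 + A 1 1) * A 1 0 = 0 by linear_combination e10)).resolve_left htr
  have ha : A 0 0 = 1 ∨ A 0 0 = -1 := mul_self_eq_one_iff.1 (by rw [hb] at e00; linear_combination e00)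
  rw [hb, zero_mul, sub_zero] at hdet
  rcases ha with ha | ha
  · left
    ext i j
    fin_cases i <;> fin_cases j <;> simp [ha, hb, hc] <;> rw [ha] at hdet <;> simpa using hdet
  · right
    have h11 : A 1 1 = -1 := by rw [ha] at hdet; linear_combination -hdet
    ext i j
    fin_cases i <;> fin_cases j <;> simp [coe_dd, ha, hb, hc, h11]

theorem exists_conj_jj [Fintype F] (hodd : Fintype.card F % 2 = 1) (h2 : (2 : F) ≠ 0)
    {A : SpecialLinearGroup (Fin 2) F} (h : A * A = dd (-1)) :
    ∃ P : SpecialLinearGroup (Fin 2) F, A * P = P * jj := by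
  have hdet : A 0 0 * A 1 1 - A 0 1 * A 1 0 = 1 := by rw [← det_fin_two]; exact A.2
  have e := fun i j => congrArg (fun g : SpecialLinearGroup (Fin 2) F => g i j) h
  have e00 := e 0 0; have e01 := e 0 1; have e10 := e 1 0; have e11 := e 1 1
  simp [SpecialLinearGroup.coe_mul, coe_dd, mul_apply, Fin.sum_univ_two] at e00 e01 e10 e11
  have htr : A 0 0 + A 1 1 = 0 := by
    by_contra hs
    have hb : A 0 1 = 0 := (mul_eq_zero.1 (show (A 0 0 + A 1 1) * A 0 1 = 0 by linear_combination e01)).resolve_left hs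
    have hc : A 1 0 = 0 := (mul_eq_zero.1 (show (A 0 0 + A 1 1) * A 1 0 = 0 by linear_combination e10)).resolve_left hs
    rw [hb] at hdet e00
    exact hs ((mul_eq_zero.1 (show A 0 0 * (A 0 0 + A 1 1) = 0 by linear_combination e00 + hdet)).resolve_left
      (fun h0 => by rw [h0] at hdet; simp at hdet))
  set a := A 0 0
  set b := A 0 1
  set c := A 1 0
  have hd : A 1 1 = -a := by linear_combination htr
  obtain ⟨v0, v1, hv⟩ : ∃ v0 v1 : F, b * (v1 * v1) + 2 * a * (v0 * v1) - c * (v0 * v0) = 1 := by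
    by_cases hb : b = 0
    · have ha : a ≠ 0 := fun h0 => by rw [hb, h0] at e00; simp at e00
      refine ⟨1, (1 + c) / (2 * a), ?_⟩
      rw [hb]
      field_simp
      ring
    · obtain ⟨X, Y, hXY⟩ := FiniteField.exists_root_sum_quadratic
        (f := Polynomial.C (b * b) * Polynomial.X ^ 2 + Polynomial.C (-b))
        (g := Polynomial.X ^ 2) (by
          rw [Polynomial.degree_add_eq_left_of_degree_lt] <;>
            rw [Polynomial.degree_C_mul_X_pow _ (mul_ne_zero hb hb)]
          · rfl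
          · exact lt_of_le_of_lt Polynomial.degree_C_le (by decide))
        (Polynomial.degree_X_pow 2) hodd
      simp only [Polynomial.eval_add, Polynomial.eval_mul, Polynomial.eval_C, Polynomial.eval_pow,
        Polynomial.eval_X] at hXY
      refine ⟨Y, X - a * Y / b, ?_⟩
      field_simp
      linear_combination hXY - Y ^ 2 * e00
  obtain ⟨P, hP⟩ : ∃ P : SpecialLinearGroup (Fin 2) F,
      (P : Matrix (Fin 2) (Fin 2) F) = !![v0, -(a * v0 + b * v1); v1, -(c * v0 - a * v1)] :=
    ⟨⟨_, by rw [det_fin_two_of]; linear_combination hv⟩, rfl⟩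
  refine ⟨P, ?_⟩
  · ext i j
    fin_cases i <;> fin_cases j <;>
      simp [SpecialLinearGroup.coe_mul, coe_jj, hP, mul_apply, Fin.sum_univ_two, hd] <;>
      simp only [a, b, c] at e00 ⊢ <;>
      first | ring1 | linear_combination v0 * e00 | linear_combination v1 * e00 |
        linear_combination -v0 * e00 | linear_combination -v1 * e00

variable {D : ChevalleyDatum} {T : Tabs}

section
variable (hc : Checked D T) {r : ℕ} (hr : r < D.nroots)
  (φ : SpecialLinearGroup (Fin 2) F →* GL D.Idx F) (hφ : ∀ b t, φ (img F (b, t)) = rootPair D F r b t)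
include hc hr hφ

theorem hom_dtwist (χ : Fin D.rank → Fˣ) (g : SpecialLinearGroup (Fin 2) F) :
    torus D T F χ * φ g * (torus D T F χ)⁻¹ = φ (dtwist (chi χ (rv D T r)) g) := by
  have h : ((MulAut.conj (torus D T F χ)).toMonoidHom.comp φ) = φ.comp (dtwist (chi χ (rv D T r))) := by
    refine MonoidHom.eq_of_eqOn_dense (closure_img F) ?_
    rintro _ ⟨b, t, rfl⟩
    simp only [MonoidHom.comp_apply, MulEquiv.coe_toMonoidHom, MulAut.conj_apply, dtwist_img, hφ]
    cases b
    · simp only [rootPair, Bool.false_eq_true, if_false]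
      rw [torus_conj_elX hc χ (neg_lt hc hr), rv_neg hc hr, chi_neg]
    · simp only [rootPair, if_true]
      rw [torus_conj_elX hc χ hr]
  exact DFunLike.congr_fun h g

theorem hom_wWord (t : F) (ht : t ≠ 0) : φ (ww t ht) = elN D F r t := by
  have e : ww t ht =
      wWord (fun b t => img F (b, t)) true t := by
    refine Subtype.ext ?_
    rw [coe_ww, img_wWord F true ht, if_pos rfl]
  rw [e]
  simp [wWord, elN, hφ, rootPair]

theorem hom_jj : φ jj = elN D F r 1 := by
  rw [← hom_wWord hc hr φ hφ 1 one_ne_zero]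
  congr 1
  apply Subtype.ext
  simp [coe_jj, coe_ww]

theorem hom_dd (s : Fˣ) : φ (dd s) = torus D T F (corChar D T r s) := by
  have e : dd s = hWord (fun b t => img F (b, t)) (s : F) := by
    apply Subtype.ext
    show (dd s : Matrix (Fin 2) (Fin 2) F) =
      ((wWord (fun b t => img F (b, t)) true (s : F) : SpecialLinearGroup (Fin 2) F) : Matrix (Fin 2) (Fin 2) F) *
        ((wWord (fun b t => img F (b, t)) true (-1 : F) : SpecialLinearGroup (Fin 2) F) : Matrix (Fin 2) (Fin 2) F)
    rw [img_wWord F true s.ne_zero, img_wWord F true (neg_ne_zero.2 one_ne_zero), coe_dd]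
    simp
  rw [e, ← hWord_rootPair hc hr]
  simp [hWord, wWord, hφ]

theorem hom_injective (hrp : D.nroots / 2 ≤ r) (hcor : ∀ s : Fˣ, corChar D T r s = 1 → s = 1) :
    Function.Injective φ := by
  rw [← MonoidHom.ker_eq_bot_iff, Subgroup.eq_bot_iff_forall]
  intro A hA
  rw [MonoidHom.mem_ker] at hA
  have hdet : A 0 0 * A 1 1 - A 0 1 * A 1 0 = 1 := by rw [← det_fin_two]; exact A.2
  have hX : ∀ t : F, φ (img F (true, t)) = elX D F r t := fun t => by rw [hφ]; rfl
  have hU : ∀ t : F, elX D F r t ∈ uGen D F (fun v => D.nroots / 2 ≤ v) := fun t => elX_mem_uGen hr hrp t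
  by_cases hc0 : A 1 0 = 0
  · have ha : A 0 0 ≠ 0 := fun h0 => by rw [hc0, h0] at hdet; simp at hdet
    have e : A = img F (true, A 0 0 * A 0 1) * dd (Units.mk0 _ ha) := by
      ext i j
      rw [hc0, mul_zero, sub_zero] at hdet
      fin_cases i <;> fin_cases j <;> simp [SpecialLinearGroup.coe_mul, coe_dd, coe_img, mul_apply, Fin.sum_univ_two, hc0]
      · field_simp
      · field_simp
        linear_combination hdet
    rw [e, map_mul, hX, hom_dd hc hr φ hφ] at hA
    have h1 := pos_inf_diag hc (hU (A 0 0 * A 0 1))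
      (by rw [mul_eq_one_iff_eq_inv.1 hA]; exact inv_mem (torus_corChar_mem hc _))
    rw [h1, one_mul] at hA
    have h2 : Units.mk0 _ ha = 1 := hcor _ (torus_injective hc (by rw [hA, map_one]))
    rw [e, (elX_eq_one_iff hc hr _).1 h1, h2, dd_one, mul_one]
    ext i j
    fin_cases i <;> fin_cases j <;> simp [coe_img]
  · exfalso
    set t : F := -(A 1 0)⁻¹
    have ht : t ≠ 0 := neg_ne_zero.2 (inv_ne_zero hc0)
    have e : A = img F (true, A 0 0 / A 1 0) * ww t ht *
        img F (true, A 1 1 / A 1 0) := by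
      ext i j
      fin_cases i <;> fin_cases j <;> simp [SpecialLinearGroup.coe_mul, coe_img, coe_ww, mul_apply, Fin.sum_univ_two, t]
      · field_simp
      · field_simp
        linear_combination -hdet
      · field_simp
    rw [e, map_mul, map_mul, hX, hX, hom_wWord hc hr φ hφ t ht] at hA
    have hn : elN D F r t ∈ D.borelSubgroup F := by
      rw [show elN D F r t = (elX D F r (A 0 0 / A 1 0))⁻¹ * 1 * (elX D F r (A 1 1 / A 1 0))⁻¹ by rw [← hA]; group,
        mul_one]
      exact mul_mem (inv_mem (pos_le_borel hc (hU _))) (inv_mem (pos_le_borel hc (hU _)))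
    have h2 := mul_mem (mul_mem hn (pos_le_borel hc (hU 1))) (inv_mem hn)
    rw [← Units.val_mk0 ht, elN_conj_elX_self hc hr] at h2
    exact elX_not_mem_borel hc (neg_lt hc hr)
      (by rw [neg_eq hc hr]; have := nroots_eq_two_mul hc; omega) (by simpa using ht) h2

end

end CfsgLib.G2Invol
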